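import Groth.Agent.AdicRingLib.Completion
import Groth.Agent.CompleteLib.CompletionHom
import Groth.Agent.S11180
import Mathlib.RingTheory.AdicCompletion.LocalRing
import Mathlib.RingTheory.AdicCompletion.AsTensorProduct
import Mathlib.RingTheory.Flat.FaithfullyFlat.Algebra
import Mathlib.RingTheory.Localization.BaseChange
import Mathlib.RingTheory.Ideal.AssociatedPrime.Finiteness

/-!
# Testing modules against complete local flat algebras
-/

set_option autoImplicit false
set_option linter.style.haveILetI false
set_option maxHeartbeats 1000000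
set_option synthInstance.maxHeartbeats 100000
universe u

open IsLocalRing
open scoped TensorProduct

namespace FlatTestLib

/-- The completion of the local ring at a prime. -/
abbrev Cpl {R : Type u} [CommRing R] (Q : Ideal R) [Q.IsPrime] : Type u :=
  AdicCompletion (maximalIdeal (Localization.AtPrime Q)) (Localization.AtPrime Q)

theorem cpl_props {R : Type u} [CommRing R] [IsNoetherianRing R] (Q : Ideal R) [Q.IsPrime] :
    IsNoetherianRing (Cpl Q) ∧ IsAdicComplete (maximalIdeal (Cpl Q)) (Cpl Q) ∧ Module.Flat R (Cpl Q) ∧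
      Module.FaithfullyFlat (Localization.AtPrime Q) (Cpl Q) := by
  let L := Localization.AtPrime Q
  haveI : IsNoetherianRing L := IsLocalization.isNoetherianRing Q.primeCompl L inferInstance
  let B := AdicCompletion (maximalIdeal L) L
  haveI : IsNoetherianRing B := AdicRingLib.isNoetherianRing_adicCompletion _
  haveI : IsScalarTower R L B := inferInstance
  haveI : Module.Flat R B := Module.Flat.trans R L B
  haveI hB : IsAdicComplete (maximalIdeal B) B := by
    rw [AdicCompletion.maximalIdeal_eq_map]
    exact AdicCompletion.isAdicComplete_self _ (IsNoetherian.noetherian _)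
  haveI : IsLocalHom (algebraMap L B) := by
    refine ⟨fun a ha => ?_⟩
    by_contra hna
    have h1 : algebraMap L B a ∈ maximalIdeal B := by
      rw [AdicCompletion.maximalIdeal_eq_map]
      exact Ideal.mem_map_of_mem _ ((mem_maximalIdeal _).2 hna)
    exact (mem_maximalIdeal _).1 h1 ha
  exact ⟨inferInstance, hB, inferInstance, Module.FaithfullyFlat.of_flat_of_isLocalHom⟩

/-- An element vanishing in the completion at `Q` is killed outside `Q`. -/
theorem exists_notMem_smul_eq_zero {R : Type u} [CommRing R] [IsNoetherianRing R] (Q : Ideal R) [Q.IsPrime]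
    {N : Type u} [AddCommGroup N] [Module R N] (z : N) (h : (1 : Cpl Q) ⊗ₜ[R] z = 0) :
    ∃ t ∉ Q, t • z = 0 := by
  obtain ⟨-, -, -, hff⟩ := cpl_props Q
  haveI := hff
  let L := Localization.AtPrime Q
  have h1 : (1 : L) ⊗ₜ[R] z = 0 := by
    apply Module.FaithfullyFlat.tensorProduct_mk_injective (A := L) (B := Cpl Q) (TensorProduct R L N)
    rw [map_zero]
    apply (TensorProduct.AlgebraTensorModule.cancelBaseChange R L L (Cpl Q) N).injective
    rw [map_zero, ← h]
    simp
  obtain ⟨⟨t, ht⟩, hm⟩ := (IsLocalizedModule.eq_zero_iff Q.primeCompl (TensorProduct.mk R L N 1)).1 h1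
  exact ⟨t, ht, hm⟩

/-- A family of elements indexed by the complete local flat algebras. -/
abbrev Fam (A : Type u) [CommRing A] (M : Type u) [AddCommGroup M] [Module A M] : Type (u + 1) :=
  ∀ (B : Type u) [CommRing B] [Algebra A B] [IsNoetherianRing B] [IsLocalRing B],
    IsAdicComplete (maximalIdeal B) B → Module.Flat A B → B ⊗[A] M

/-- Compatibility of a family. -/
def Compat {A : Type u} [CommRing A] {M : Type u} [AddCommGroup M] [Module A M] (x : Fam A M) : Prop :=
  ∀ (B : Type u) [CommRing B] [Algebra A B] [IsNoetherianRing B] [IsLocalRing B]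
    (hB : IsAdicComplete (maximalIdeal B) B) (hBf : Module.Flat A B)
    (B' : Type u) [CommRing B'] [Algebra A B'] [IsNoetherianRing B'] [IsLocalRing B']
    (hB' : IsAdicComplete (maximalIdeal B') B') (hB'f : Module.Flat A B') (g : B →ₐ[A] B'),
    LinearMap.rTensor M g.toLinearMap (x B hB hBf) = x B' hB' hB'f

/-- The family comes from an element. -/
def Descends {A : Type u} [CommRing A] {M : Type u} [AddCommGroup M] [Module A M] (x : Fam A M) (m : M) : Prop :=
  ∀ (B : Type u) [CommRing B] [Algebra A B] [IsNoetherianRing B] [IsLocalRing B]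
    (hB : IsAdicComplete (maximalIdeal B) B) (hBf : Module.Flat A B), x B hB hBf = (1 : B) ⊗ₜ[A] m

variable {A : Type u} [CommRing A] [IsNoetherianRing A]

theorem exists_descends_prime {N : Type u} [AddCommGroup N] [Module A N] (P : Ideal A) [P.IsPrime]
    (e : N ≃ₗ[A] A ⧸ P) (x : Fam A N) (hx : Compat x) : ∃ m, Descends x m := by
  classical
  haveI : Module.Finite A N := Module.Finite.equiv e.symm
  let g := e.symm 1
  have hgen : ∀ n : N, ∃ a : A, a • g = n := fun n => by
    obtain ⟨a, ha⟩ := Ideal.Quotient.mk_surjective (e n)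
    exact ⟨a, e.injective (by rw [map_smul, e.apply_symm_apply, Algebra.smul_def, mul_one, Ideal.Quotient.algebraMap_eq, ha])⟩
  have hkill : ∀ a ∈ P, ∀ n : N, a • n = 0 := fun a ha n => e.injective (by
    rw [map_smul, map_zero, Algebra.smul_def, Ideal.Quotient.algebraMap_eq, Ideal.Quotient.eq_zero_iff_mem.2 ha, zero_mul])
  have hreg : ∀ a ∉ P, Function.Injective (fun n : N => a • n) := fun a ha n n' h => by
    apply e.injective
    have h' := congrArg e h
    simp only [map_smul, Algebra.smul_def, Ideal.Quotient.algebraMap_eq] at h'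
    exact mul_left_cancel₀ (fun h0 => ha (Ideal.Quotient.eq_zero_iff_mem.1 h0)) h'
  -- the value at the completion at `P`
  obtain ⟨hCN, hCc, hCf, -⟩ := cpl_props P
  haveI := hCN
  obtain ⟨c, hc⟩ : ∃ c : Cpl P, x (Cpl P) hCc hCf = c ⊗ₜ g := by
    induction x (Cpl P) hCc hCf using TensorProduct.induction_on with
    | zero => exact ⟨0, by rw [TensorProduct.zero_tmul]⟩
    | add a b ha hb =>
      obtain ⟨a', rfl⟩ := ha; obtain ⟨b', rfl⟩ := hb
      exact ⟨a' + b', by rw [TensorProduct.add_tmul]⟩
    | tmul a n =>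
      obtain ⟨r, rfl⟩ := hgen n
      exact ⟨r • a, by rw [TensorProduct.smul_tmul]⟩
  let L := Localization.AtPrime P
  haveI : IsNoetherianRing L := IsLocalization.isNoetherianRing P.primeCompl L inferInstance
  obtain ⟨l, hl⟩ := AdicRingLib.exists_sub_mem_map_pow (IsNoetherian.noetherian (maximalIdeal L)) 1 c
  rw [pow_one] at hl
  obtain ⟨r, ⟨s, hs⟩, rfl⟩ := IsLocalization.exists_mk'_eq P.primeCompl l
  have hPkill : ∀ u ∈ P.map (algebraMap A (Cpl P)), u ⊗ₜ[A] g = 0 := by
    intro u hu
    induction hu using Submodule.span_induction with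
    | mem y hy =>
      obtain ⟨a, ha, rfl⟩ := hy
      rw [Algebra.algebraMap_eq_smul_one, TensorProduct.smul_tmul, hkill a ha g, TensorProduct.tmul_zero]
    | zero => rw [TensorProduct.zero_tmul]
    | add y z _ _ hy hz => rw [TensorProduct.add_tmul, hy, hz, add_zero]
    | smul b y _ hy =>
      rw [show (b • y) ⊗ₜ[A] g = b • (y ⊗ₜ[A] g) from (TensorProduct.smul_tmul' b y g).symm, hy, smul_zero]
  have hP : s • x (Cpl P) hCc hCf = (1 : Cpl P) ⊗ₜ (r • g) := by
    rw [hc, ← sub_eq_zero, TensorProduct.smul_tmul', ← TensorProduct.smul_tmul r, ← TensorProduct.sub_tmul]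
    refine hPkill _ ?_
    have h2 := Ideal.mul_mem_left _ (algebraMap A (Cpl P) s) hl
    have hmap : (maximalIdeal L).map (algebraMap L (Cpl P)) = P.map (algebraMap A (Cpl P)) :=
      (congrArg (Ideal.map (algebraMap L (Cpl P))) (IsLocalization.AtPrime.map_eq_maximalIdeal P L).symm).trans
        (by rw [Ideal.map_map, ← IsScalarTower.algebraMap_eq])
    rw [hmap] at h2
    convert h2 using 1
    rw [mul_sub, IsScalarTower.algebraMap_apply A L (Cpl P) s, ← map_mul, IsLocalization.mk'_spec'_mk,
      ← IsScalarTower.algebraMap_apply, ← IsScalarTower.algebraMap_apply, Algebra.smul_def, Algebra.smul_def, mul_one]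
  -- everywhere
  have hall : ∀ (B : Type u) [CommRing B] [Algebra A B] [IsNoetherianRing B] [IsLocalRing B]
      (hB : IsAdicComplete (maximalIdeal B) B) (hBf : Module.Flat A B),
      s • x B hB hBf = (1 : B) ⊗ₜ (r • g) := by
    intro B _ _ _ _ hB hBf
    rw [← sub_eq_zero]
    by_contra hne
    obtain ⟨Q, hQ, hann⟩ := exists_le_isAssociatedPrime_of_isNoetherianRing B _ hne
    obtain ⟨hQp, w, hw⟩ := isAssociatedPrime_iff.1 hQ
    haveI := hQp
    have hQP : ∀ a : A, algebraMap A B a ∈ Q ↔ a ∈ P := fun a => by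
      constructor
      · intro ha
        by_contra haP
        rw [hw, Submodule.mem_colon_singleton, Submodule.mem_bot, algebraMap_smul] at ha
        have hw0 : w = 0 := by
          refine Module.Flat.lTensor_preserves_injective_linearMap (M := B) (LinearMap.lsmul A N a) (hreg a haP) ?_
          rw [map_zero, ← ha]
          clear hw ha
          induction w using TensorProduct.induction_on with
          | zero => rw [map_zero, smul_zero]
          | add p q hp hq => rw [map_add, smul_add, hp, hq]
          | tmul b n => rw [LinearMap.lTensor_tmul, LinearMap.lsmul_apply, TensorProduct.tmul_smul]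
        exact hQp.ne_top (hw.trans ((Submodule.colon_eq_top_iff_subset _).2 (by simp [hw0])))
      · intro ha
        rw [hw, Submodule.mem_colon_singleton, Submodule.mem_bot, algebraMap_smul]
        clear hw
        induction w using TensorProduct.induction_on with
        | zero => rw [smul_zero]
        | add p q hp hq => rw [smul_add, hp, hq, add_zero]
        | tmul b n => rw [← TensorProduct.tmul_smul, hkill a ha n, TensorProduct.tmul_zero]
    obtain ⟨hDN, hDc, hDf, -⟩ := cpl_props Q
    haveI := hDN
    haveI : Module.Flat A (Cpl Q) := Module.Flat.trans A B (Cpl Q)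
    haveI := hDc
    let θ : L →+* Cpl Q := IsLocalization.lift (M := P.primeCompl) (g := algebraMap A (Cpl Q)) fun a => by
      rw [IsScalarTower.algebraMap_apply A B (Cpl Q), IsScalarTower.algebraMap_apply B (Localization.AtPrime Q) (Cpl Q)]
      exact (IsLocalization.map_units (Localization.AtPrime Q)
        (⟨algebraMap A B a, fun h => a.2 ((hQP _).1 h)⟩ : Q.primeCompl)).map _
    have hθ : (maximalIdeal L).map θ ≤ maximalIdeal (Cpl Q) := by
      rw [← IsLocalization.AtPrime.map_eq_maximalIdeal P L, Ideal.map_map, IsLocalization.lift_comp,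
        Ideal.map_le_iff_le_comap]
      intro a ha
      rw [Ideal.mem_comap, IsScalarTower.algebraMap_apply A B (Cpl Q),
        IsScalarTower.algebraMap_apply B (Localization.AtPrime Q) (Cpl Q), AdicCompletion.maximalIdeal_eq_map]
      exact Ideal.mem_map_of_mem _ ((IsLocalization.AtPrime.to_map_mem_maximal_iff _ Q _).2 ((hQP a).2 ha))
    let h : Cpl P →ₐ[A] Cpl Q :=
      { CompleteLib.completionLift (maximalIdeal L) (maximalIdeal (Cpl Q)) θ hθ with
        commutes' := fun a => by
          show CompleteLib.completionLift _ _ θ hθ (algebraMap A (Cpl P) a) = _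
          rw [IsScalarTower.algebraMap_apply A L (Cpl P), CompleteLib.completionLift_algebraMap]
          exact IsLocalization.lift_eq _ a }
    let gB : B →ₐ[A] Cpl Q := IsScalarTower.toAlgHom A B (Cpl Q)
    have h3 : LinearMap.rTensor N gB.toLinearMap (s • x B hB hBf - (1 : B) ⊗ₜ (r • g)) = 0 := by
      rw [map_sub, map_smul, hx B hB hBf (Cpl Q) hDc inferInstance gB,
        ← hx (Cpl P) hCc hCf (Cpl Q) hDc inferInstance h, ← map_smul, hP, LinearMap.rTensor_tmul,
        LinearMap.rTensor_tmul]
      simp
    have h4 : (1 : Cpl Q) ⊗ₜ[B] (s • x B hB hBf - (1 : B) ⊗ₜ[A] (r • g)) = 0 := by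
      apply (TensorProduct.AlgebraTensorModule.cancelBaseChange A B B (Cpl Q) N).injective
      rw [map_zero, ← h3]
      generalize s • x B hB hBf - (1 : B) ⊗ₜ[A] (r • g) = z
      induction z using TensorProduct.induction_on with
      | zero => simp
      | add p q hp hq => rw [TensorProduct.tmul_add, map_add, map_add, hp, hq]
      | tmul b n =>
        rw [TensorProduct.AlgebraTensorModule.cancelBaseChange_tmul, LinearMap.rTensor_tmul]
        simp [gB, Algebra.smul_def]
    obtain ⟨t, htQ, ht⟩ := exists_notMem_smul_eq_zero Q _ h4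
    exact htQ (hann (Submodule.mem_colon_singleton.2 (by rw [Submodule.mem_bot]; exact ht)))
  -- divide by `s`
  let S : Submodule A N := LinearMap.range (LinearMap.lsmul A N s)
  have hS : ∀ (B : Type u) [CommRing B] [Algebra A B] (y : B ⊗[A] (N ⧸ S)), s • y = 0 := by
    intro B _ _ y
    induction y using TensorProduct.induction_on with
    | zero => rw [smul_zero]
    | add p q hp hq => rw [smul_add, hp, hq, add_zero]
    | tmul b n =>
      obtain ⟨n, rfl⟩ := S.mkQ_surjective n
      rw [← TensorProduct.tmul_smul, ← map_smul, Submodule.mkQ_apply,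
        show (Submodule.Quotient.mk (s • n) : N ⧸ S) = 0 from (Submodule.Quotient.mk_eq_zero S).2 ⟨n, rfl⟩,
        TensorProduct.tmul_zero]
  have hzero : S.mkQ (r • g) = 0 := Groth.Agent.S11180.result A (N ⧸ S) _ fun B _ _ _ _ hB hBf => by
    rw [← LinearMap.lTensor_tmul, ← hall B hB hBf, map_smul]
    exact hS B _
  obtain ⟨d, hd⟩ := (Submodule.Quotient.mk_eq_zero S).1 hzero
  refine ⟨d, fun B _ _ _ _ hB hBf => ?_⟩
  refine Module.Flat.lTensor_preserves_injective_linearMap (M := B) (LinearMap.lsmul A N s) (hreg s hs) ?_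
  have key : ∀ y : B ⊗[A] N, (LinearMap.lsmul A N s).lTensor B y = s • y := fun y => by
    induction y using TensorProduct.induction_on with
    | zero => rw [map_zero, smul_zero]
    | add p q hp hq => rw [map_add, smul_add, hp, hq]
    | tmul b n => rw [LinearMap.lTensor_tmul, LinearMap.lsmul_apply, TensorProduct.tmul_smul]
  rw [key, hall B hB hBf, LinearMap.lTensor_tmul, hd]

theorem exists_descends_exact {N₁ N₂ N₃ : Type u} [AddCommGroup N₁] [Module A N₁] [AddCommGroup N₂] [Module A N₂]
    [AddCommGroup N₃] [Module A N₃] (f : N₁ →ₗ[A] N₂) (g : N₂ →ₗ[A] N₃) (hf : Function.Injective f)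
    (hg : Function.Surjective g) (hfg : Function.Exact f g)
    (h₁ : ∀ x : Fam A N₁, Compat x → ∃ m, Descends x m) (h₃ : ∀ x : Fam A N₃, Compat x → ∃ m, Descends x m)
    (x : Fam A N₂) (hx : Compat x) : ∃ m, Descends x m := by
  obtain ⟨m₃, hm₃⟩ := h₃ (fun B _ _ _ _ hB hBf => g.lTensor B (x B hB hBf))
    fun B _ _ _ _ hB hBf B' _ _ _ _ hB' hB'f φ => by
      show LinearMap.rTensor N₃ φ.toLinearMap (g.lTensor B (x B hB hBf)) = g.lTensor B' (x B' hB' hB'f)
      rw [← LinearMap.comp_apply, LinearMap.rTensor_comp_lTensor, ← LinearMap.lTensor_comp_rTensor,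
        LinearMap.comp_apply, hx B hB hBf B' hB' hB'f φ]
  obtain ⟨m₂, rfl⟩ := hg m₃
  have hex : ∀ (B : Type u) [CommRing B] [Algebra A B] [IsNoetherianRing B] [IsLocalRing B]
      (hB : IsAdicComplete (maximalIdeal B) B) (hBf : Module.Flat A B),
      ∃ y : B ⊗[A] N₁, f.lTensor B y = x B hB hBf - (1 : B) ⊗ₜ m₂ := fun B _ _ _ _ hB hBf =>
    (lTensor_exact B hfg hg _).1 (by
      rw [map_sub, LinearMap.lTensor_tmul, show g.lTensor B (x B hB hBf) = _ from hm₃ B hB hBf, sub_self])
  choose y hy using hex
  obtain ⟨m₁, hm₁⟩ := h₁ y fun B _ _ _ _ hB hBf B' _ _ _ _ hB' hB'f φ => by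
    refine Module.Flat.lTensor_preserves_injective_linearMap (M := B') f hf ?_
    rw [hy B' hB' hB'f, ← LinearMap.comp_apply, LinearMap.lTensor_comp_rTensor, ← LinearMap.rTensor_comp_lTensor,
      LinearMap.comp_apply, hy B hB hBf, map_sub, hx B hB hBf B' hB' hB'f φ, LinearMap.rTensor_tmul]
    simp
  refine ⟨m₂ + f m₁, fun B _ _ _ _ hB hBf => ?_⟩
  have h := hy B hB hBf
  rw [show y B hB hBf = _ from hm₁ B hB hBf, LinearMap.lTensor_tmul] at h
  rw [TensorProduct.tmul_add, h, add_sub_cancel]

theorem exists_descends (M : Type u) [AddCommGroup M] [Module A M] [hM : Module.Finite A M] :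
    ∀ (x : Fam A M), Compat x → ∃ m, Descends x m := by
  refine IsNoetherianRing.induction_on_isQuotientEquivQuotientPrime A
    (motive := fun N _ _ _ => ∀ x : Fam A N, Compat x → ∃ m, Descends x m) hM ?_ ?_ ?_
  · intro N _ _ _ _ x _
    refine ⟨0, fun B _ _ _ _ hB hBf => ?_⟩
    induction x B hB hBf using TensorProduct.induction_on with
    | zero => rw [TensorProduct.tmul_zero]
    | tmul b n => rw [Subsingleton.elim n 0, TensorProduct.tmul_zero, TensorProduct.tmul_zero]
    | add p q hp hq => rw [hp, hq, TensorProduct.tmul_zero, add_zero]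
  · intro N _ _ _ p e x hx
    exact exists_descends_prime p.asIdeal e x hx
  · intro N₁ _ _ _ N₂ _ _ _ N₃ _ _ _ f g hf hg hfg h₁ h₃ x hx
    exact exists_descends_exact f g hf hg hfg h₁ h₃ x hx

end FlatTestLib
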